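import Mathlib
import Groth.Agent.KaplanskyLib.Free

/-!
# Big projective modules (Bass)
-/

set_option autoImplicit false
set_option maxHeartbeats 1000000
universe u

open Submodule

namespace Groth.Agent.BassLib

variable {R : Type u} [CommRing R] {P : Type u} [AddCommGroup P] [Module R P]

/-- No finitely generated submodule fills `P` modulo a maximal ideal. -/
def Big (R P : Type u) [CommRing R] [AddCommGroup P] [Module R P] : Prop :=
  ∀ (m : Ideal R), m.IsMaximal → ∀ N : Submodule R P, N.FG → N ⊔ m • ⊤ ≠ ⊤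

theorem exists_coord_notMem {Rm : Type u} [CommRing Rm] [Algebra R Rm] {Pm : Type u} [AddCommGroup Pm] [Module R Pm]
    [Module Rm Pm] [IsScalarTower R Rm Pm] {ι : Type u} (b : Module.Basis ι Rm Pm) [Infinite ι] (T : Finset Pm) :
    ∃ j, ∀ x ∈ T, b.repr x j = 0 := by
  classical
  obtain ⟨j, hj⟩ := Infinite.exists_notMem_finset (T.biUnion fun x => (b.repr x).support)
  refine ⟨j, fun x hx => ?_⟩
  by_contra h
  exact hj (Finset.mem_biUnion.2 ⟨x, hx, Finsupp.mem_support_iff.2 h⟩)

theorem big_of_localization [Module.Projective R P]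
    (hP : ∀ (m : Ideal R) [m.IsMaximal],
      ¬ Module.Finite (Localization.AtPrime m) (LocalizedModule m.primeCompl P)) : Big R P := by
  classical
  intro m hm N hN htop
  let Rm := Localization.AtPrime m
  let Pm := LocalizedModule m.primeCompl P
  haveI : Module.Projective Rm Pm := by
    have h := IsLocalizedModule.isBaseChange m.primeCompl Rm (LocalizedModule.mkLinearMap m.primeCompl P)
    exact Module.Projective.of_equiv h.equiv
  haveI : Module.Free Rm Pm := KaplanskyLib.free_of_projective Pm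
  let b := Module.Free.chooseBasis Rm Pm
  haveI : Infinite (Module.Free.ChooseBasisIndex Rm Pm) := not_finite_iff_infinite.1 fun h => hP m (Module.Finite.of_basis b)
  obtain ⟨T, hT⟩ := hN
  obtain ⟨j, hj⟩ := exists_coord_notMem (R := R) b (T.image (LocalizedModule.mkLinearMap m.primeCompl P))
  let c : P →ₗ[R] Rm := ((b.coord j).restrictScalars R).comp (LocalizedModule.mkLinearMap m.primeCompl P)
  have hle : N ⊔ m • ⊤ ≤ ((IsLocalRing.maximalIdeal Rm).restrictScalars R).comap c := by
    refine sup_le ?_ (Submodule.smul_le.2 fun r hr x _ => ?_)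
    · rw [← hT, Submodule.span_le]
      intro x hx
      show c x ∈ IsLocalRing.maximalIdeal Rm
      rw [show c x = b.repr (LocalizedModule.mkLinearMap m.primeCompl P x) j from rfl,
        hj _ (Finset.mem_image_of_mem _ hx)]
      exact zero_mem _
    · show c (r • x) ∈ IsLocalRing.maximalIdeal Rm
      rw [map_smul, Algebra.smul_def]
      exact Ideal.mul_mem_right _ _ ((IsLocalization.AtPrime.to_map_mem_maximal_iff Rm m r).2 hr)
  obtain ⟨⟨x, t⟩, hx⟩ := IsLocalizedModule.surj m.primeCompl (LocalizedModule.mkLinearMap m.primeCompl P) (b j)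
  have h1 : c x ∈ IsLocalRing.maximalIdeal Rm := hle (by rw [htop]; exact Submodule.mem_top)
  rw [show c x = b.coord j (LocalizedModule.mkLinearMap m.primeCompl P x) from rfl, ← hx, Submonoid.smul_def,
    ← algebraMap_smul Rm, map_smul, Module.Basis.coord_apply, Module.Basis.repr_self, Finsupp.single_eq_same,
    smul_eq_mul, mul_one] at h1
  exact t.2 ((IsLocalization.AtPrime.to_map_mem_maximal_iff Rm m _).1 h1)

theorem Big.of_isCompl (hP : Big R P) {K K' : Submodule R P} (h : IsCompl K K') (hK : K.FG) : Big R K' := by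
  intro m hm N hN htop
  refine hP m hm (K ⊔ N.map K'.subtype) (Submodule.FG.sup hK (hN.map K'.subtype)) ?_
  refine eq_top_iff'.2 fun y => ?_
  obtain ⟨a, ha, b, hb, rfl⟩ := Submodule.mem_sup.1 (h.sup_eq_top ▸ Submodule.mem_top : y ∈ K ⊔ K')
  refine add_mem (Submodule.mem_sup_left (Submodule.mem_sup_left ha)) ?_
  have h1 : (⟨b, hb⟩ : K') ∈ N ⊔ m • (⊤ : Submodule R K') := by rw [htop]; exact Submodule.mem_top
  obtain ⟨n, hn, c, hc, e⟩ := Submodule.mem_sup.1 h1
  have e' : (n : P) + (c : P) = b := congrArg Subtype.val e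
  rw [← e']
  refine add_mem (Submodule.mem_sup_left (Submodule.mem_sup_right ⟨n, hn, rfl⟩)) (Submodule.mem_sup_right ?_)
  have h2 : (c : P) ∈ Submodule.map K'.subtype (m • (⊤ : Submodule R K')) := ⟨c, hc, rfl⟩
  rw [Submodule.map_smul''] at h2
  exact Submodule.smul_mono (le_refl m) le_top h2

theorem isNoetherian_quotient (J : Ideal R) [IsNoetherianRing (R ⧸ J)] : IsNoetherian R (R ⧸ J) := by
  refine ⟨fun s => ?_⟩
  let I : Ideal (R ⧸ J) :=
    { carrier := s
      add_mem' := s.add_mem
      zero_mem' := s.zero_mem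
      smul_mem' := fun c x hx => by
        obtain ⟨r, rfl⟩ := Ideal.Quotient.mk_surjective c
        exact s.smul_mem r hx }
  obtain ⟨T, hT⟩ := IsNoetherian.noetherian I
  refine ⟨T, ?_⟩
  rw [← Submodule.restrictScalars_span R (R ⧸ J) Ideal.Quotient.mk_surjective, hT]
  rfl

/-- Bass: unimodular elements avoiding finitely many coordinates. -/
theorem exists_unimodular [IsNoetherianRing (R ⧸ (⊥ : Ideal R).jacobson)] (hP : Big R P) {κ : Type u}
    (i : P →ₗ[R] κ →₀ R) (q : (κ →₀ R) →ₗ[R] P) (hqi : ∀ x, q (i x) = x) (J0 : Finset κ)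
    (s : P) (M : Submodule R P) (hM : Submodule.span R {s} ⊔ M = ⊤) :
    ∃ m ∈ M, ∃ φ : P →ₗ[R] R, φ (s + m) = 1 ∧ ∀ x, (∀ j ∈ (i x).support, j ∈ J0) → φ x = 0 := by
  classical
  set J := (⊥ : Ideal R).jacobson with hJdef
  haveI := isNoetherian_quotient J
  let co : κ → P →ₗ[R] R := fun j => (Finsupp.lapply j).comp i
  let I : P → Ideal R := fun x => J ⊔ Ideal.span ((fun j => co j x) '' {j | j ∉ J0})
  obtain ⟨_, ⟨x, hxM, rfl⟩, hmax⟩ := set_has_maximal_iff_noetherian.2
    (inferInstance : IsNoetherian (R ⧸ J) (R ⧸ J))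
    ((fun x => (I x).map (Ideal.Quotient.mk J)) '' {x | x - s ∈ M})
    ⟨_, s, show s - s ∈ M by simp, rfl⟩
  have hI : I x = ⊤ := by
    by_contra hne
    obtain ⟨𝔪, h𝔪, hle⟩ := Ideal.exists_le_maximal _ hne
    have hJm : J ≤ 𝔪 := le_sup_left.trans hle
    let J1 : Finset κ := J0 ∪ (i x).support
    let π : P →ₗ[R] (J1 → R ⧸ J) := LinearMap.pi fun j => (Submodule.mkQ J).comp (co j)
    let K := LinearMap.ker π
    let w : P →ₗ[R] P ⧸ (𝔪 • ⊤ : Submodule R P) := Submodule.mkQ _
    have hM' : Submodule.span R {x} ⊔ M = ⊤ := by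
      rw [eq_top_iff, ← hM]
      refine sup_le (Submodule.span_le.2 (Set.singleton_subset_iff.2 ?_)) le_sup_right
      rw [show s = x - (x - s) by abel]
      exact sub_mem (Submodule.mem_sup_left (Submodule.mem_span_singleton_self x)) (Submodule.mem_sup_right hxM)
    let RK : Ideal R :=
      (Submodule.map M.mkQ K).comap (LinearMap.toSpanSingleton R (P ⧸ M) (M.mkQ x))
    obtain ⟨T, hT⟩ := IsNoetherian.noetherian (R := R ⧸ J) (RK.map (Ideal.Quotient.mk J))
    have hz : ¬ M ⊓ K ≤ LinearMap.ker w := by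
      intro hker
      have hT' : ∀ t ∈ T, ∃ r, Ideal.Quotient.mk J r = t ∧ ∃ y ∈ K, y - r • x ∈ M := fun t ht => by
        obtain ⟨r, hr, e⟩ := (Ideal.mem_map_iff_of_surjective _ Ideal.Quotient.mk_surjective).1
          (hT ▸ Submodule.subset_span ht)
        obtain ⟨y, hy, hy'⟩ := hr
        refine ⟨r, e, y, hy, ?_⟩
        rwa [LinearMap.toSpanSingleton_apply, ← map_smul, Submodule.mkQ_apply, Submodule.mkQ_apply,
          Submodule.Quotient.eq] at hy'
      choose r hr y hy hyM using hT'
      have hKfg : ((LinearMap.range π)).FG := IsNoetherian.noetherian _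
      obtain ⟨U, hU⟩ := hKfg
      have hU' : ∀ u ∈ U, ∃ z, π z = u := fun u hu => (hU ▸ Submodule.subset_span hu : u ∈ LinearMap.range π)
      choose z hz using hU'
      let Sx : Finset P := T.attach.image (fun t => y t.1 t.2) ∪ U.attach.image (fun u => z u.1 u.2)
      refine hP 𝔪 h𝔪 (Submodule.span R Sx) (Submodule.fg_span Sx.finite_toSet) (eq_top_iff.2 fun p _ => ?_)
      have hsp : ∀ v ∈ K, v ∈ Submodule.span R (Sx : Set P) ⊔ 𝔪 • ⊤ := by
        intro v hv
        obtain ⟨c, m', hm', hcm⟩ : ∃ c, ∃ m' ∈ M, v = c • x + m' := by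
          have : v ∈ Submodule.span R {x} ⊔ M := hM' ▸ Submodule.mem_top
          obtain ⟨a, ha, m', hm', e⟩ := Submodule.mem_sup.1 this
          obtain ⟨c, rfl⟩ := Submodule.mem_span_singleton.1 ha
          exact ⟨c, m', hm', e.symm⟩
        have hc : c ∈ RK := ⟨v, hv, by
          rw [LinearMap.toSpanSingleton_apply, ← map_smul, Submodule.mkQ_apply, Submodule.mkQ_apply,
            Submodule.Quotient.eq, hcm, add_sub_cancel_left]
          exact hm'⟩
        have h1 : Ideal.Quotient.mk J c ∈ Submodule.span (R ⧸ J) (T : Set (R ⧸ J)) :=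
          hT ▸ Ideal.mem_map_of_mem _ hc
        rw [show (T : Set (R ⧸ J)) = Set.range (fun t : T => (t : R ⧸ J)) by simp,
          Submodule.mem_span_range_iff_exists_fun] at h1
        obtain ⟨a, ha⟩ := h1
        choose a' ha' using fun t => Ideal.Quotient.mk_surjective (a t)
        let δ := c - ∑ t : T, a' t * r t.1 t.2
        have hδ : δ ∈ J := by
          rw [← Ideal.Quotient.eq_zero_iff_mem, map_sub, map_sum]
          simp only [map_mul, ha', hr]
          rw [sub_eq_zero]
          exact ha.symm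
        let v0 := v - ∑ t : T, a' t • y t.1 t.2 - δ • x
        have hv0K : v0 ∈ K := sub_mem (sub_mem hv (Submodule.sum_mem _ fun t _ => K.smul_mem _ (hy _ _))) (by
          refine LinearMap.mem_ker.2 (funext fun j => ?_)
          show Submodule.Quotient.mk (co j (δ • x)) = 0
          rw [Submodule.Quotient.mk_eq_zero, map_smul, smul_eq_mul]
          exact J.mul_mem_right _ hδ)
        have hv0M : v0 ∈ M := by
          have : v0 = m' - ∑ t : T, a' t • (y t.1 t.2 - r t.1 t.2 • x) := by
            simp only [v0, δ, hcm, sub_smul, Finset.sum_smul, smul_sub, Finset.sum_sub_distrib, mul_smul]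
            abel
          rw [this]
          exact sub_mem hm' (Submodule.sum_mem _ fun t _ => M.smul_mem _ (hyM _ _))
        have hv0 : v0 ∈ (𝔪 • ⊤ : Submodule R P) := by
          have := hker ⟨hv0M, hv0K⟩
          rwa [LinearMap.mem_ker, Submodule.mkQ_apply, Submodule.Quotient.mk_eq_zero] at this
        rw [show v = ∑ t : T, a' t • y t.1 t.2 + (v0 + δ • x) by simp only [v0]; abel]
        refine add_mem (Submodule.mem_sup_left (Submodule.sum_mem _ fun t _ => Submodule.smul_mem _ _
          (Submodule.subset_span (Finset.mem_union_left _ (Finset.mem_image.2 ⟨t, Finset.mem_attach _ _, rfl⟩)))))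
          (Submodule.mem_sup_right (add_mem hv0 (Submodule.smul_mem_smul (hJm hδ) Submodule.mem_top)))
      have hp : π p ∈ (Submodule.span R (Sx : Set P)).map π := by
        have h1 : π p ∈ Submodule.span R (U : Set (J1 → R ⧸ J)) := hU ▸ LinearMap.mem_range_self π p
        refine Submodule.span_le.2 ?_ h1
        intro u hu
        exact ⟨z u hu, Submodule.subset_span (Finset.mem_union_right _
          (Finset.mem_image.2 ⟨⟨u, hu⟩, Finset.mem_attach _ _, rfl⟩)), hz u hu⟩
      obtain ⟨n, hn, e⟩ := hp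
      rw [← sub_add_cancel p n]
      exact add_mem (hsp _ (by rw [LinearMap.mem_ker, map_sub, e, sub_self])) (Submodule.mem_sup_left hn)
    obtain ⟨v, ⟨hvM, hvK⟩, hvw⟩ := SetLike.not_le_iff_exists.1 hz
    have hco : ∀ j ∈ J1, co j v ∈ J := fun j hj =>
      (Submodule.Quotient.mk_eq_zero J).1 (congrFun (LinearMap.mem_ker.1 hvK) ⟨j, hj⟩)
    obtain ⟨j, hj⟩ : ∃ j, co j v ∉ 𝔪 := by
      by_contra hcon
      push Not at hcon
      refine hvw ((Submodule.Quotient.mk_eq_zero _).2 ?_)
      rw [← hqi v, ← Finsupp.sum_single (i v), Finsupp.sum, map_sum]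
      refine Submodule.sum_mem _ fun j _ => ?_
      rw [← Finsupp.smul_single_one, map_smul]
      exact Submodule.smul_mem_smul (hcon j) Submodule.mem_top
    have hjJ1 : j ∉ J1 := fun h => hj (hJm (hco j h))
    have hxj : co j x = 0 := by
      by_contra h
      exact hjJ1 (Finset.mem_union_right _ (Finsupp.mem_support_iff.2 h))
    have hle1 : I x ≤ I (x + v) := by
      refine sup_le le_sup_left (Ideal.span_le.2 ?_)
      rintro _ ⟨l, hl, rfl⟩
      by_cases h : l ∈ (i x).support
      · show co l x ∈ I (x + v)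
        rw [show co l x = co l (x + v) - co l v by rw [map_add, add_sub_cancel_right]]
        exact sub_mem (Ideal.mem_sup_right (Ideal.subset_span ⟨l, hl, rfl⟩))
          (Ideal.mem_sup_left (hco l (Finset.mem_union_right _ h)))
      · show co l x ∈ I (x + v)
        rw [show co l x = 0 from Finsupp.notMem_support_iff.1 h]
        exact zero_mem _
    refine hmax _ ⟨x + v, show x + v - s ∈ M by rw [add_sub_right_comm]; exact add_mem hxM hvM, rfl⟩
      (lt_of_le_of_ne (Ideal.map_mono hle1) fun e => hj (hle ?_))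
    have h2 : co j (x + v) ∈ I (x + v) :=
      Ideal.mem_sup_right (Ideal.subset_span ⟨j, fun h => hjJ1 (Finset.mem_union_left _ h), rfl⟩)
    have h3 := Ideal.mem_map_of_mem (Ideal.Quotient.mk J) h2
    have e' : (I x).map (Ideal.Quotient.mk J) = (I (x + v)).map (Ideal.Quotient.mk J) := e
    rw [← e', ← Ideal.mem_comap, Ideal.comap_map_of_surjective _ Ideal.Quotient.mk_surjective,
      ← RingHom.ker_eq_comap_bot, Ideal.mk_ker, sup_eq_left.2 le_sup_left, map_add, hxj, zero_add] at h3
    exact h3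
  obtain ⟨a, ha, b, hb, hab⟩ := Submodule.mem_sup.1 ((Ideal.eq_top_iff_one _).1 hI)
  obtain ⟨c, hc, hcb⟩ := (Finsupp.mem_span_image_iff_linearCombination R).1 hb
  let φ0 : P →ₗ[R] R := c.sum fun j r => r • co j
  have hφ0 : ∀ y, φ0 y = c.sum fun j r => r * co j y := fun y => by
    simp [φ0, Finsupp.sum, LinearMap.sum_apply]
  have hunit : IsUnit (φ0 x) := by
    refine Ideal.isUnit_of_sub_one_mem_jacobson_bot _ ?_
    have : φ0 x = b := by rw [hφ0, ← hcb, Finsupp.linearCombination_apply]; rfl
    rw [this, show b - 1 = -a by rw [← hab]; ring]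
    exact neg_mem ha
  refine ⟨x - s, hxM, ((hunit.unit⁻¹ : Rˣ) : R) • φ0, ?_, fun y hy => ?_⟩
  · rw [add_sub_cancel, LinearMap.smul_apply, smul_eq_mul, IsUnit.val_inv_mul]
  · rw [LinearMap.smul_apply, hφ0 y, Finsupp.sum, Finset.sum_eq_zero fun j hj => ?_, smul_zero]
    have hjs : j ∉ J0 := (Finsupp.mem_supported R c).1 hc hj
    rw [show co j y = 0 from Finsupp.notMem_support_iff.1 fun h => hjs (hy j h), mul_zero]

theorem exists_surjection_killing [IsNoetherianRing (R ⧸ (⊥ : Ideal R).jacobson)] (hP : Big R P) {κ : Type u}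
    (i : P →ₗ[R] κ →₀ R) (q : (κ →₀ R) →ₗ[R] P) (hqi : ∀ x, q (i x) = x) (J0 : Finset κ) (k : ℕ) :
    ∃ π : P →ₗ[R] (Fin k → R), Function.Surjective π ∧ ∀ x, (∀ j ∈ (i x).support, j ∈ J0) → π x = 0 := by
  classical
  induction k generalizing J0 with
  | zero => exact ⟨0, fun y => ⟨0, funext fun j => j.elim0⟩, fun _ _ => rfl⟩
  | succ k ih =>
    obtain ⟨m, -, φ, hφ, hφ0⟩ := exists_unimodular hP i q hqi J0 0 ⊤ (by simp)
    rw [zero_add] at hφ
    obtain ⟨π, hπ, hπ0⟩ := ih (J0 ∪ (i m).support)
    refine ⟨LinearMap.pi (Fin.cons φ fun j => (LinearMap.proj j).comp π), fun y => ?_, fun x hx => funext fun j => ?_⟩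
    · obtain ⟨z, hz⟩ := hπ (Fin.tail y)
      refine ⟨z + (y 0 - φ z) • m, funext fun j => ?_⟩
      refine Fin.cases ?_ (fun j => ?_) j
      · simp [hφ]
      · simp [hπ0 m fun j hj => Finset.mem_union_right _ hj, hz, Fin.tail]
    · refine Fin.cases ?_ (fun j => ?_) j
      · simp [hφ0 x hx]
      · simp [hπ0 x fun l hl => Finset.mem_union_left _ (hx l hl)]

/-- Every element lies in a finite free direct summand. -/
theorem exists_split [IsNoetherianRing (R ⧸ (⊥ : Ideal R).jacobson)] [Module.Projective R P] (hP : Big R P) (s : P) :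
    ∃ (k : ℕ) (f : P →ₗ[R] (Fin k → R)) (θ : (Fin k → R) →ₗ[R] P),
      f.comp θ = LinearMap.id ∧ s ∈ LinearMap.range θ := by
  classical
  obtain ⟨i, hi⟩ := Module.projective_def'.mp ‹Module.Projective R P›
  let q : (P →₀ R) →ₗ[R] P := Finsupp.linearCombination R id
  have hqi : ∀ p, q (i p) = p := fun p => LinearMap.congr_fun hi p
  let J0 := (i s).support
  let k := J0.card
  let e : Fin k ≃ J0 := J0.equivFin.symm
  obtain ⟨π, hπ, hπ0⟩ := exists_surjection_killing hP i q hqi J0 k
  obtain ⟨σ, hσ⟩ := Module.projective_lifting_property π LinearMap.id hπ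
  have hσ' : ∀ y, π (σ y) = y := fun y => LinearMap.congr_fun hσ y
  let g : P →ₗ[R] (Fin k → R) := LinearMap.pi fun l => (Finsupp.lapply ((e l : J0) : P)).comp i
  let f : P →ₗ[R] (Fin k → R) := π + g.comp (LinearMap.id - σ.comp π)
  let χ : (Fin k → R) →ₗ[R] P := ∑ l, (LinearMap.proj l).smulRight (q (Finsupp.single ((e l : J0) : P) 1))
  let θ : (Fin k → R) →ₗ[R] P := χ + σ.comp (LinearMap.id - f.comp χ)
  have hfσ : ∀ y, f (σ y) = y := fun y => by
    simp [f, hσ']
  refine ⟨k, f, θ, LinearMap.ext fun y => ?_, g s, ?_⟩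
  · simp [θ, hfσ]
  · have hπs : π s = 0 := hπ0 s fun j hj => hj
    have hfs : f s = g s := by simp [f, hπs]
    have hχ : χ (g s) = s := by
      conv_rhs => rw [← hqi s, ← Finsupp.sum_single (i s), Finsupp.sum, map_sum]
      rw [← Finset.sum_coe_sort, ← Equiv.sum_comp e]
      simp only [χ, g, LinearMap.sum_apply, LinearMap.smulRight_apply, LinearMap.proj_apply, LinearMap.pi_apply,
        LinearMap.comp_apply, Finsupp.lapply_apply]
      refine Finset.sum_congr rfl fun l _ => ?_
      rw [← map_smul, Finsupp.smul_single_one]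
    simp [θ, hχ, hfs]

/-- A countably generated big projective module is free. -/
theorem free_of_countable [IsNoetherianRing (R ⧸ (⊥ : Ideal R).jacobson)] [Module.Projective R P] (hP : Big R P)
    (x : ℕ → P) (hx : Submodule.span R (Set.range x) = ⊤) : Module.Free R P := by
  classical
  -- a step: split off a finite free summand from a direct summand
  let S := {e : P →ₗ[R] P // e.comp e = e ∧ (LinearMap.ker e).FG}
  have step : ∀ (e : S) (p : P), ∃ (k : ℕ) (f : P →ₗ[R] (Fin k → R)) (θ : (Fin k → R) →ₗ[R] P) (e' : S),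
      f.comp θ = LinearMap.id ∧ e.1.comp θ = θ ∧ e'.1 = e.1 - θ.comp (f.comp e.1) ∧
        e.1 p ∈ LinearMap.range θ := by
    intro e p
    let K' := LinearMap.range e.1
    have hee : ∀ y, e.1 (e.1 y) = e.1 y := fun y => LinearMap.congr_fun e.2.1 y
    let er : P →ₗ[R] K' := e.1.rangeRestrict
    haveI : Module.Projective R K' := Module.Projective.of_split K'.subtype er (LinearMap.ext fun y => by
      obtain ⟨z, hz⟩ := y.2
      exact Subtype.ext (show e.1 (y : P) = y by rw [← hz, hee]))
    have hbig : Big R K' := hP.of_isCompl ⟨disjoint_def.2 (by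
      rintro y hy ⟨z, rfl⟩
      rwa [LinearMap.mem_ker, hee] at hy), codisjoint_iff.2 (eq_top_iff.2 fun y _ =>
        Submodule.mem_sup.2 ⟨y - e.1 y, by rw [LinearMap.mem_ker, map_sub, hee, sub_self], e.1 y, ⟨y, rfl⟩, by abel⟩)⟩
      e.2.2
    obtain ⟨k, f, θ, hfθ, c, hc⟩ := exists_split hbig (er p)
    have heθ : ∀ c, e.1 (θ c : P) = θ c := fun c => by
      obtain ⟨z, hz⟩ := (θ c).2
      rw [← hz, hee]
    have her : ∀ c, er (θ c : P) = θ c := fun c => Subtype.ext (heθ c)
    have hfθ' : ∀ c, f (θ c) = c := fun c => LinearMap.congr_fun hfθ c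
    refine ⟨k, f.comp er, K'.subtype.comp θ, ⟨e.1 - (K'.subtype.comp θ).comp ((f.comp er).comp e.1), ?_, ?_⟩,
      LinearMap.ext fun c => ?_, LinearMap.ext heθ, rfl, ⟨c, congrArg Subtype.val hc⟩⟩
    · refine LinearMap.ext fun y => ?_
      have h1 : ∀ y, er (e.1 y) = er y := fun y => Subtype.ext (hee y)
      simp [hee, heθ, h1, her, hfθ', map_sub]
    · have hle : LinearMap.ker (e.1 - (K'.subtype.comp θ).comp ((f.comp er).comp e.1)) =
          LinearMap.ker e.1 ⊔ LinearMap.range (K'.subtype.comp θ) := by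
        refine le_antisymm (fun y hy => ?_) (sup_le (fun y hy => ?_) ?_)
        · rw [LinearMap.mem_ker, LinearMap.sub_apply, sub_eq_zero] at hy
          refine Submodule.mem_sup.2 ⟨y - e.1 y, by rw [LinearMap.mem_ker, map_sub, hee, sub_self], e.1 y, ?_, by abel⟩
          rw [hy]
          exact ⟨_, rfl⟩
        · rw [LinearMap.mem_ker] at hy
          simp [hy]
        · rintro _ ⟨c, rfl⟩
          simp [heθ, her, hfθ']
      rw [hle]
      exact e.2.2.sup (by rw [LinearMap.range_eq_map]; exact (Module.Finite.fg_top).map _)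
    · show f (er (θ c : P)) = c
      rw [her, hfθ']
  choose k f θ e' hfθ heθ he' hp using step
  let e0 : S := ⟨LinearMap.id, LinearMap.id_comp _, by rw [LinearMap.ker_id]; exact Submodule.fg_bot⟩
  let E : ℕ → S := fun n => Nat.rec e0 (fun n e => e' e (x n)) n
  have hE : ∀ n, (E (n + 1)).1 = (E n).1 - (θ (E n) (x n)).comp ((f (E n) (x n)).comp (E n).1) := fun n => he' _ _
  let Φ : (Π₀ n : ℕ, (Fin (k (E n) (x n)) → R)) →ₗ[R] P := DFinsupp.lsum ℕ fun n => θ (E n) (x n)
  have hΦsingle : ∀ n c, Φ (DFinsupp.single n c) = θ (E n) (x n) c := fun n c => by simp [Φ]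
  -- later projections kill earlier summands
  have hkill : ∀ n m, n < m → ∀ c, (E m).1 (θ (E n) (x n) c) = 0 := by
    intro n m h c
    induction h with
    | refl =>
      rw [hE, LinearMap.sub_apply, LinearMap.comp_apply, LinearMap.comp_apply,
        LinearMap.congr_fun (heθ (E n) (x n)) c |> fun h => (show (E n).1 (θ (E n) (x n) c) = _ from h),
        show f (E n) (x n) (θ (E n) (x n) c) = c from LinearMap.congr_fun (hfθ _ _) c, sub_self]
    | step h ih => rw [hE, LinearMap.sub_apply, LinearMap.comp_apply, LinearMap.comp_apply, ih, map_zero, map_zero, sub_zero]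
  have hfix : ∀ n m, n ≤ m → ∀ y, (E n).1 ((E m).1 y) = (E m).1 y := by
    intro n m h
    induction h with
    | refl => exact fun y => LinearMap.congr_fun (E n).2.1 y
    | @step m h ih =>
      intro y
      have h2 : (E n).1 (θ (E m) (x m) (f (E m) (x m) ((E m).1 y))) = θ (E m) (x m) (f (E m) (x m) ((E m).1 y)) := by
        rw [← LinearMap.congr_fun (heθ (E m) (x m)) (f (E m) (x m) ((E m).1 y)), LinearMap.comp_apply, ih]
      rw [hE, LinearMap.sub_apply, LinearMap.comp_apply, LinearMap.comp_apply, map_sub, ih, h2]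
  have hfθ' : ∀ n c, f (E n) (x n) (θ (E n) (x n) c) = c := fun n c => LinearMap.congr_fun (hfθ _ _) c
  have hlow : ∀ n m, n < m → ∀ c, (f (E n) (x n)) ((E n).1 (θ (E m) (x m) c)) = 0 := by
    intro n m h c
    have h1 : (E (n + 1)).1 (θ (E m) (x m) c) = θ (E m) (x m) c := by
      rw [← LinearMap.congr_fun (heθ (E m) (x m)) c, LinearMap.comp_apply, hfix (n + 1) m h]
    rw [← h1, hfix n (n + 1) n.le_succ, hE, LinearMap.sub_apply, map_sub, LinearMap.comp_apply, LinearMap.comp_apply,
      hfθ', sub_self]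
  have hdiag : ∀ n m c, (f (E n) (x n)) ((E n).1 (θ (E m) (x m) c)) =
      (DFinsupp.single m c : Π₀ n : ℕ, (Fin (k (E n) (x n)) → R)) n := by
    intro n m c
    rcases lt_trichotomy n m with h | rfl | h
    · rw [hlow n m h, DFinsupp.single_eq_of_ne h.ne]
    · rw [DFinsupp.single_eq_same, show (E n).1 (θ (E n) (x n) c) = θ (E n) (x n) c from
        LinearMap.congr_fun (heθ _ _) c, hfθ']
    · rw [hkill m n h, map_zero, DFinsupp.single_eq_of_ne h.ne']
  have hΦ : ∀ z n, (f (E n) (x n)) ((E n).1 (Φ z)) = z n := by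
    intro z n
    induction z using DFinsupp.induction with
    | h0 => simp
    | ha m c z _ _ ih => rw [map_add, map_add, map_add, hΦsingle, hdiag, ih, DFinsupp.add_apply]
  have hinj : Function.Injective Φ := fun a b h => DFinsupp.ext fun n => by rw [← hΦ a n, ← hΦ b n, h]
  have hrange : ∀ n y, y - (E n).1 y ∈ LinearMap.range Φ := by
    intro n
    induction n with
    | zero => intro y; rw [show (E 0).1 y = y from rfl, sub_self]; exact zero_mem _
    | succ n ih =>
      intro y
      rw [hE, LinearMap.sub_apply, ← sub_add]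
      exact add_mem (ih y) ⟨DFinsupp.single n _, hΦsingle n _⟩
  have hsurj : Function.Surjective Φ := by
    rw [← LinearMap.range_eq_top, eq_top_iff, ← hx, Submodule.span_le]
    rintro _ ⟨n, rfl⟩
    obtain ⟨c, hc⟩ := hp (E n) (x n)
    have := add_mem (hrange n (x n)) (⟨DFinsupp.single n c, hΦsingle n c⟩ : θ (E n) (x n) c ∈ LinearMap.range Φ)
    rwa [hc, sub_add_cancel] at this
  exact Module.Free.of_equiv (LinearEquiv.ofBijective Φ ⟨hinj, hsurj⟩)

end Groth.Agent.BassLib
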